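import Mathlib
import Groth.Agent.Ext1Realise.Basic

/-! Extensions completing a diagram. -/

set_option autoImplicit false

open CategoryTheory CategoryTheory.Limits CategoryTheory.Abelian

namespace ExtDiag

universe w v u

variable {C : Type u} [Category.{v} C] [Abelian C] [HasExt.{w} C]

theorem exists_iff {S : ShortComplex C} (hS : S.ShortExact) {Q P : C} (φ : S.X₁ ⟶ Q) (π : S.X₃ ⟶ P) [Epi π] :
    (∃ (B : C) (f : Q ⟶ B) (g : B ⟶ P) (h : S.X₂ ⟶ B) (w : f ≫ g = 0),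
        (ShortComplex.mk f g w).ShortExact ∧ S.f ≫ h = φ ≫ f ∧ h ≫ g = S.g ≫ π) ↔
      (Ext.mk₀ (kernel.ι π)).comp (hS.extClass.comp (Ext.mk₀ φ) (add_zero 1)) (zero_add 1) = 0 := by
  have hK : (ShortComplex.mk (kernel.ι π) π (kernel.condition π)).ShortExact :=
    { exact := ShortComplex.exact_of_f_is_kernel _ (kernelIsKernel π) }
  constructor
  · rintro ⟨B, f, g, h, w, hT, h1, h2⟩
    rw [ShortComplex.ShortExact.extClass_naturality hS hT
        { τ₁ := φ, τ₂ := h, τ₃ := π, comm₁₂ := h1.symm, comm₂₃ := h2 },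
      Ext.mk₀_comp_mk₀_assoc, kernel.condition, Ext.mk₀_zero, Ext.zero_comp]
  · intro hx
    obtain ⟨y, hy⟩ := Ext.contravariant_sequence_exact₂ hK Q _ hx
    obtain ⟨B, f, g, w, hT, rfl⟩ := Groth.Agent.Ext1Realise.exists_extension y
    have h0 : (Ext.mk₀ (S.g ≫ π)).comp hT.extClass (zero_add 1) = 0 := by
      rw [← Ext.mk₀_comp_mk₀_assoc, hy, ShortComplex.ShortExact.comp_extClass_assoc]
    obtain ⟨h0', hh⟩ := Ext.covariant_sequence_exact₃ S.X₂ hT _ rfl h0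
    obtain ⟨h₀, rfl⟩ := (Ext.mk₀_bijective _ _).2 h0'
    rw [Ext.mk₀_comp_mk₀] at hh
    have hh' : h₀ ≫ g = S.g ≫ π := (Ext.mk₀_bijective _ _).1 hh
    have hfg : (S.f ≫ h₀) ≫ g = 0 := by rw [Category.assoc, hh', S.zero_assoc, zero_comp]
    have : Mono f := hT.mono_f
    let ψ := hT.exact.lift (S.f ≫ h₀) hfg
    have hψ : ψ ≫ f = S.f ≫ h₀ := hT.exact.lift_f _ _
    have hnat := ShortComplex.ShortExact.extClass_naturality hS hT
      { τ₁ := ψ, τ₂ := h₀, τ₃ := π, comm₁₂ := hψ, comm₂₃ := hh' }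
    rw [hy] at hnat
    have hd : hS.extClass.comp (Ext.mk₀ (φ - ψ)) (add_zero 1) = 0 := by
      have e := congrArg (fun z => hS.extClass.comp z (add_zero 1)) (Ext.mk₀_add (φ - ψ) ψ)
      simp only [sub_add_cancel, Ext.comp_add] at e
      rw [hnat] at e
      exact add_eq_right.1 e.symm
    obtain ⟨χ', hχ⟩ := Ext.contravariant_sequence_exact₁ hS Q _ (add_zero 1) hd
    obtain ⟨χ, rfl⟩ := (Ext.mk₀_bijective _ _).2 χ'
    rw [Ext.mk₀_comp_mk₀] at hχ
    have hχ' : S.f ≫ χ = φ - ψ := (Ext.mk₀_bijective _ _).1 hχ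
    refine ⟨B, f, g, h₀ + χ ≫ f, w, hT, ?_, ?_⟩
    · rw [Preadditive.comp_add, ← hψ, reassoc_of% hχ', Preadditive.sub_comp, add_sub_cancel]
    · rw [Preadditive.add_comp, hh', Category.assoc, w, comp_zero, add_zero]

end ExtDiag
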